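import Cfsg.Agent.H909.PwM.Chart

/-!
# Products of two conjugates of a fixed element in a group with a chart `2^(1+24)`, `Co1` (helper630)

* `P2 x g` : `g` is a product of two conjugates of `x`;
* `p2_of_pi` : `g ∈ C(z)`, `pi g ≠ 1` a product of two conjugates of `pi a`, `pi a` without fixed points on `Λ/2Λ`;
* `p2_of_mem` : `g ∈ Q`, `g ≠ 1`, `g ≠ z`, if `1` is a product of two conjugates of `pi a`.
-/

set_option autoImplicit false

namespace Cfsg.Agent.H630.TC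

open Cfsg Cfsg.Spor Cfsg.Agent.MonsterU.Lam2 Cfsg.Agent.MonsterU
open Cfsg.Agent.KFacts.LargeO2 (mem_of_triv)
open Cfsg.Agent.H6.ORE
open Cfsg.Agent.H323.Pw (ES.prod_step_fpf fpz_cov step)
open Cfsg.Agent.H909.PwM (ker_eq fin_sub fix_of)

universe u v

/-- a product of two conjugates of `x` -/
def P2 {G : Type*} [Group G] (x g : G) : Prop := ∃ u v : G, g = (u * x * u⁻¹) * (v * x * v⁻¹)

section

variable {G : Type u} [Group G] {H : Type v} [Group H] {x g : G}

theorem P2.map (h : P2 x g) (f : G →* H) : P2 (f x) (f g) := by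
  obtain ⟨u, v, e⟩ := h
  exact ⟨f u, f v, by rw [e]; simp only [map_mul, map_inv]⟩

theorem P2.conj (h : P2 x g) (k : G) : P2 x (k * g * k⁻¹) := by
  obtain ⟨u, v, e⟩ := h
  exact ⟨k * u, k * v, by rw [e]; group⟩

theorem P2.of_conj {k : G} (h : P2 x (k * g * k⁻¹)) : P2 x g := by
  have h1 := h.conj k⁻¹
  rwa [show k⁻¹ * (k * g * k⁻¹) * k⁻¹⁻¹ = g by group] at h1

theorem P2.of_isConj {g' : G} (h : P2 x g) (hc : IsConj g g') : P2 x g' := by
  obtain ⟨k, hk⟩ := isConj_iff.1 hc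
  rw [← hk]
  exact h.conj k

/-- the fixed element may be replaced by a conjugate -/
theorem P2.change (h : P2 x g) (k : G) : P2 (k * x * k⁻¹) g := by
  obtain ⟨u, v, e⟩ := h
  exact ⟨u * k⁻¹, v * k⁻¹, by rw [e]; group⟩

theorem P2.of_isConj_left {x' : G} (h : P2 x g) (hc : IsConj x x') : P2 x' g := by
  obtain ⟨k, hk⟩ := isConj_iff.1 hc
  rw [← hk]
  exact h.change k

/-- in a subgroup -/
theorem P2.of_sub {K : Subgroup G} {x g : K} (h : P2 x g) : P2 (x : G) (g : G) := h.map K.subtype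

end

section es

variable {H : Type*} [Group H] {Q : Subgroup H} {z : H}

/-- noncentral elements of an extraspecial group -/
theorem p2_mem (h : ES Q z) [Finite Q] {a b : H}
    (hfix : ∀ x ∈ Q, (a * x * a⁻¹ = x ∨ a * x * a⁻¹ = x * z) → x = 1 ∨ x = z) (hab : a * b ∈ Q)
    {q : H} (hq : q ∈ Q) (hq1 : q ≠ 1) (hne : q ≠ z) :
    ∃ y ∈ Q, ∃ u ∈ Q, ∃ w ∈ Q, y * q * y⁻¹ = u * a * u⁻¹ * (w * b * w⁻¹) := by
  have hn := h.normal
  have hzn := h.normal_zpowers
  have hx : (a * b)⁻¹ * q ∈ Q := Q.mul_mem (Q.inv_mem hab) hq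
  obtain ⟨u, hu, w, hw, e⟩ := step (a := a) (b := b) (fpz_cov h (FPz.of_left h b hfix)) hx
  rw [mul_inv_cancel_left, h.mem_zpowers] at e
  rcases e with e | e
  · exact ⟨1, Q.one_mem, u, hu, w, hw, by rw [← inv_mul_eq_one.1 e]; group⟩
  · have e0 : q = u * a * u⁻¹ * (w * b * w⁻¹) * z := by rw [← e]; group
    have : ∃ y ∈ Q, ¬ (q * y = y * q) := by
      by_contra hno
      push Not at hno
      rcases h.nd q hq hno with h1 | h1
      · exact hq1 h1
      · exact hne h1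
    obtain ⟨y, hy, hyq⟩ := this
    have e2 : q * y = y * q * z := (h.comm q hq y hy).resolve_left hyq
    refine ⟨y, hy, u, hu, w, hw, ?_⟩
    have e3 : y * q * y⁻¹ = q * z := by
      have e4 : y * q = q * y * z := by rw [e2, mul_assoc (y * q), h.sq, mul_one]
      rw [e4, mul_assoc q, h.central, mul_assoc, mul_assoc, mul_inv_cancel, mul_one]
    rw [e3]
    calc q * z = u * a * u⁻¹ * (w * b * w⁻¹) * z * z := by rw [← e0]
      _ = u * a * u⁻¹ * (w * b * w⁻¹) := by rw [mul_assoc, h.sq, mul_one]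

end es

section chart

variable {M : Type*} [Group M] {Q : Subgroup M} {z : M} {eta : M → L2}
  {pi : Subgroup.centralizer ({z} : Set M) →* Co1}

/-- conjugates of elements without fixed points -/
theorem fix_conj {p : Co1} (hp : ∀ v : L2, p • v = v → v = 0) (c : Co1) (v : L2) (hv : (c * p * c⁻¹) • v = v) :
    v = 0 := by
  have h1 : p • (c⁻¹ • v) = c⁻¹ • v := by
    have h2 : c⁻¹ • ((c * p * c⁻¹) • v) = c⁻¹ • v := by rw [hv]
    rwa [← mul_smul, show c⁻¹ * (c * p * c⁻¹) = p * c⁻¹ by group, mul_smul] at h2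
  have h3 := hp _ h1
  rwa [smul_eq_zero_iff_eq] at h3

/-- **Elements outside `Q`.** -/
theorem p2_of_pi (h : Ch.Chart Q z eta pi) {a g : CZ z} (ha : ∀ v : L2, pi a • v = v → v = 0) (hg : pi g ≠ 1)
    (hp : P2 (pi a) (pi g)) : P2 a g := by
  have hE := es_of_large h.large
  have hfinQ := h.fin
  have hfin := fin_sub h
  obtain ⟨u₀, v₀, e⟩ := hp
  obtain ⟨c, rfl⟩ := h.pi_surj u₀
  obtain ⟨d, rfl⟩ := h.pi_surj v₀
  have ha' : ∀ t : CZ z, ∀ v : L2, pi (t * a * t⁻¹) • v = v → v = 0 := by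
    intro t v hv
    rw [map_mul, map_mul, map_inv] at hv
    exact fix_conj ha _ v hv
  have e1 : pi g = pi (c * a * c⁻¹ * (d * a * d⁻¹)) := by rw [e]; simp only [map_mul, map_inv]
  have hx : (c * a * c⁻¹ * (d * a * d⁻¹))⁻¹ * g ∈ Q.subgroupOf (CZ z) := by
    rw [← ker_eq h, MonoidHom.mem_ker, map_mul, map_inv, e1, inv_mul_cancel]
  obtain ⟨u, -, w, -, e'⟩ := ES.prod_step_fpf hE (fix_of h (ha' c)) (fix_of h (ha' d)) (by
    by_contra hno
    push Not at hno
    apply hg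
    rw [e1, h.pi_eq_one]
    apply mem_of_triv h.large (Subgroup.mem_centralizer_singleton_iff.1 (c * a * c⁻¹ * (d * a * d⁻¹)).2)
    intro y hy
    have hyC : y ∈ CZ z := Subgroup.mem_centralizer_singleton_iff.2 (h.large.comm_z y hy)
    by_contra hcon
    push Not at hcon
    exact (hno ⟨y, hyC⟩ hy).elim (fun e1 => hcon.1 (congrArg Subtype.val e1)) fun e1 =>
      hcon.2 (congrArg Subtype.val e1)) hx
  rw [mul_inv_cancel_left] at e'
  exact ⟨u * c, w * d, by rw [← e']; group⟩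

/-- **Elements of `Q`.** -/
theorem p2_of_mem (h : Ch.Chart Q z eta pi) {a : CZ z} (ha : ∀ v : L2, pi a • v = v → v = 0)
    (hp : P2 (pi a) 1) {q : M} (hq : q ∈ Q) (hq1 : q ≠ 1) (hqz : q ≠ z) : P2 (a : M) q := by
  have hE := es_of_large h.large
  have hfin := fin_sub h
  obtain ⟨u₀, v₀, e⟩ := hp
  obtain ⟨c, rfl⟩ := h.pi_surj u₀
  obtain ⟨d, rfl⟩ := h.pi_surj v₀
  have hqC : q ∈ CZ z := Subgroup.mem_centralizer_singleton_iff.2 (h.large.comm_z q hq)
  have hab : (c * a * c⁻¹) * (d * a * d⁻¹) ∈ Q.subgroupOf (CZ z) := by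
    rw [← ker_eq h, MonoidHom.mem_ker]
    simp only [map_mul, map_inv]
    exact e.symm
  obtain ⟨y, -, u, -, w, -, e'⟩ := p2_mem hE (a := c * a * c⁻¹) (b := d * a * d⁻¹) (fix_of h (by
    intro v hv
    rw [map_mul, map_mul, map_inv] at hv
    exact fix_conj ha _ v hv)) hab (q := ⟨q, hqC⟩) hq (fun e => hq1 (congrArg Subtype.val e))
    (fun e => hqz (congrArg Subtype.val e))
  have h2 : P2 a (y * (⟨q, hqC⟩ : CZ z) * y⁻¹) := ⟨u * c, w * d, by rw [e']; group⟩
  exact h2.of_conj.of_sub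

/-- **All elements of `C(z)`.** -/
theorem p2_cent (h : Ch.Chart Q z eta pi) {a : CZ z} (ha : ∀ v : L2, pi a • v = v → v = 0)
    (hp1 : P2 (pi a) 1) (hz : ∃ x : M, x * z * x⁻¹ ∈ Q ∧ x * z * x⁻¹ ≠ z) (g : CZ z) (hg1 : (g : M) ≠ 1)
    (hp : pi g ≠ 1 → P2 (pi a) (pi g)) : P2 (a : M) (g : M) := by
  by_cases h1 : pi g = 1
  · have hgQ := (h.pi_eq_one g).1 h1
    by_cases hgz : (g : M) = z
    · obtain ⟨x, hx, hxz⟩ := hz
      rw [hgz]
      refine P2.of_conj (k := x) (p2_of_mem h ha hp1 hx ?_ hxz)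
      intro h2
      apply hg1
      rw [hgz]
      rw [mul_inv_eq_one] at h2
      exact mul_eq_left.1 h2
    · exact p2_of_mem h ha hp1 hgQ hg1 hgz
  · exact (p2_of_pi h ha h1 (hp h1)).of_sub

end chart

end Cfsg.Agent.H630.TC
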