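import Cfsg.Agent.H630.TC.ChartTwo
import Cfsg.Agent.BpSpor.MBigEleven

/-!
# Row `M` of S4173 / S2464: the elements commuting with an involution of class `2B` (helper630)

`a ∈ C(zz)`, `pi a` without fixed points on `Λ/2Λ`, `1` a product of two conjugates of `pi a` (real).

* `lift_odd` : elements of odd order of `Co1` lift to elements of the same order of `C(zz)`;
* `m2_of` : `g ≠ 1` commuting with `k zz k⁻¹` is a product of two conjugates of `a` if its image in `Co1` is one;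
* `m2` : all of them, from the table of `Co1`.
-/

set_option autoImplicit false

namespace Cfsg.Agent.H630.TC

open Cfsg Cfsg.Agent.MonsterU.Lam2 Cfsg.Agent.MonsterU
open Cfsg.Agent.H6.ORE (CZ)
open Cfsg.Agent.BpSpor.MBigModel (MG zz pi chart finite simple zz_sq)
open Cfsg.Spor (Co1)
open Subgroup (mem_centralizer_singleton_iff)

/-- a lift of odd order -/
theorem lift_odd {p : Co1} (hp : Odd (orderOf p)) : ∃ a : CZ zz, pi a = p ∧ orderOf a = orderOf p := by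
  obtain ⟨a, rfl, ha⟩ := H909.PwM.exists_pre chart (n := 2) (dvd_refl 2) (p := p) (Nat.coprime_two_right.2 hp)
  refine ⟨a, rfl, ?_⟩
  apply Nat.dvd_antisymm
  · have h1 : pi (a ^ orderOf (pi a)) = 1 := by rw [map_pow, pow_orderOf_eq_one]
    have h2 := Cfsg.Agent.MFive.pow_four chart ((chart.pi_eq_one _).1 h1)
    have h3 : (a ^ orderOf (pi a)) ^ 4 = 1 := Subtype.ext h2
    rw [← pow_mul] at h3
    exact Nat.Coprime.dvd_of_dvd_mul_right (by
      rw [show (4 : ℕ) = 2 ^ 2 by norm_num]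
      exact ha.pow_right 2) (orderOf_dvd_of_pow_eq_one h3)
  · exact orderOf_map_dvd pi a

/-- `zz` has a conjugate in `2^(1+24)` different from `zz` -/
theorem exists_z : ∃ x : MG, x * zz * x⁻¹ ∈ (Cfsg.Agent.MonsterX.KDone.K.ι).range ∧ x * zz * x⁻¹ ≠ zz := by
  have hfin := finite
  have hs := simple
  obtain ⟨g, hin, hne, -⟩ := Fused.exists_type_four chart
  exact ⟨g, hin, hne⟩

/-- **Elements of `C(zz)`.** -/
theorem m2_z {a : CZ zz} (ha : ∀ v : L2, pi a • v = v → v = 0) (hp1 : P2 (pi a) 1) (g : CZ zz)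
    (hg1 : (g : MG) ≠ 1) (hp : pi g ≠ 1 → P2 (pi a) (pi g)) : P2 (a : MG) (g : MG) :=
  p2_cent chart ha hp1 exists_z g hg1 hp

/-- conjugation into `C(zz)` -/
theorem conj_mem {g k : MG} (hg : g * (k * zz * k⁻¹) = (k * zz * k⁻¹) * g) : k⁻¹ * g * k⁻¹⁻¹ ∈ CZ zz := by
  rw [mem_centralizer_singleton_iff, inv_inv]
  calc k⁻¹ * g * k * zz = k⁻¹ * (g * (k * zz * k⁻¹)) * k := by group
    _ = k⁻¹ * ((k * zz * k⁻¹) * g) * k := by rw [hg]
    _ = zz * (k⁻¹ * g * k) := by group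

/-- **M2.** Elements commuting with a conjugate of `zz`. -/
theorem m2_of {a : CZ zz} (ha : ∀ v : L2, pi a • v = v → v = 0) (hp1 : P2 (pi a) 1) {g k : MG} (hg1 : g ≠ 1)
    (hg : g * (k * zz * k⁻¹) = (k * zz * k⁻¹) * g)
    (hp : pi ⟨k⁻¹ * g * k⁻¹⁻¹, conj_mem hg⟩ ≠ 1 → P2 (pi a) (pi ⟨k⁻¹ * g * k⁻¹⁻¹, conj_mem hg⟩)) :
    P2 (a : MG) g := by
  refine P2.of_conj (k := k⁻¹) (m2_z ha hp1 ⟨k⁻¹ * g * k⁻¹⁻¹, conj_mem hg⟩ ?_ hp)
  intro h
  apply hg1
  have h' : k⁻¹ * g * k⁻¹⁻¹ = 1 := h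
  rw [mul_inv_eq_one] at h'
  exact mul_eq_left.1 h'

/-- **M2, all elements**, from the table of `Co1`. -/
theorem m2 {a : CZ zz} (ha : ∀ v : L2, pi a • v = v → v = 0) (hCo : ∀ l : Co1, P2 (pi a) l) {g v : MG}
    (hg1 : g ≠ 1) (hv : IsConj zz v) (hg : g * v = v * g) : P2 (a : MG) g := by
  obtain ⟨k, rfl⟩ := isConj_iff.1 hv
  exact m2_of ha (hCo 1) hg1 hg fun _ => hCo _

/-- **M2**, elements whose order divides `n` -/
theorem m2_ord {a : CZ zz} (ha : ∀ v : L2, pi a • v = v → v = 0) (hp1 : P2 (pi a) 1) {n : ℕ}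
    (hCo : ∀ l : Co1, l ≠ 1 → orderOf l ∣ n → P2 (pi a) l) {g v : MG} (hg1 : g ≠ 1) (hgn : orderOf g ∣ n)
    (hv : IsConj zz v) (hg : g * v = v * g) : P2 (a : MG) g := by
  obtain ⟨k, rfl⟩ := isConj_iff.1 hv
  refine m2_of ha hp1 hg1 hg fun h1 => hCo _ h1 ?_
  refine (orderOf_map_dvd pi _).trans ?_
  rw [← Subgroup.orderOf_coe]
  show orderOf (k⁻¹ * g * k⁻¹⁻¹) ∣ n
  rwa [← MulAut.conj_apply, MulEquiv.orderOf_eq]

end Cfsg.Agent.H630.TC
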